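/- Hom complexes into a coextension, and shifts of Hom complexes. -/
import Groth.Agent.DualCx.FiniteMap
import Groth.Agent.DualCx.Loc
import Groth.Agent.RHomMod.Derived

set_option autoImplicit false
set_option maxHeartbeats 1000000
set_option linter.style.haveILetI false
set_option backward.isDefEq.respectTransparency false
set_option backward.isDefEq.respectTransparency.types false
universe u

namespace Groth.Agent.DualBC

open CategoryTheory Limits CochainComplex HomComplex
open Groth.Agent.DualCx (ext coext coJ unit1)

attribute [local instance] HasDerivedCategory.standard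

noncomputable section

section Coext

variable {P B : Type u} [CommRing P] [CommRing B] [Algebra P B]

/-- `B` as a module over `P` -/
abbrev resB (P B : Type u) [CommRing P] [CommRing B] [Algebra P B] : ModuleCat.{u} P :=
  (DualCx.res P B).obj (ModuleCat.of B B)

/-- an element of the coextension as a linear map -/
abbrev coLin {M : ModuleCat.{u} P} (y : (coext P B).obj M) : resB P B →ₗ[P] M :=
  ModuleCat.CoextendScalars.equiv (algebraMap P B) M y

variable {F J : DRing.Cx P}

/-- multiplication on the right -/
abbrev mulR (b : resB P B) (c : B) : resB P B := ((show B from b) * c : B)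

theorem mulR_algebraMap (b : resB P B) (c : P) : mulR b (algebraMap P B c) = c • b :=
  mul_comm (show B from b) (algebraMap P B c)

/-- the value at `b` of a cochain with values in a coextension -/
def valV {n : ℤ} (z : Cochain ((DRingKP.bc (algebraMap P B)).obj F) (coJ (B := B) J) n) (b : resB P B) (p q : ℤ)
    (h : p + n = q) : F.X p ⟶ J.X q :=
  ModuleCat.ofHom
    { toFun := fun x => coLin ((z.v p q h).hom (unit1 (algebraMap P B) (F.X p) x)) b
      map_add' := fun x y => by erw [map_add, map_add]; rfl
      map_smul' := fun c x => by
        erw [DualCx.unit1_smul, map_smul]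
        change coLin ((z.v p q h).hom (unit1 _ _ x)) (mulR b (algebraMap P B c)) = _
        rw [RingHom.id_apply, mulR_algebraMap, map_smul] }

theorem valV_apply {n : ℤ} (z : Cochain ((DRingKP.bc (algebraMap P B)).obj F) (coJ (B := B) J) n) (b : resB P B)
    (p q : ℤ) (h : p + n = q) (x : F.X p) :
    (valV z b p q h).hom x = coLin ((z.v p q h).hom (unit1 (algebraMap P B) (F.X p) x)) b := rfl

/-- the value at `b` -/
def valC {n : ℤ} (z : Cochain ((DRingKP.bc (algebraMap P B)).obj F) (coJ (B := B) J) n) (b : resB P B) :
    Cochain F J n :=
  Cochain.mk fun p q h => valV z b p q h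

theorem valC_v {n : ℤ} (z : Cochain ((DRingKP.bc (algebraMap P B)).obj F) (coJ (B := B) J) n) (b : resB P B)
    (p q : ℤ) (h : p + n = q) : (valC z b).v p q h = valV z b p q h := Cochain.mk_v _ p q h

/-- values as a linear map -/
def valL {n : ℤ} (z : Cochain ((DRingKP.bc (algebraMap P B)).obj F) (coJ (B := B) J) n) :
    resB P B →ₗ[P] Cochain F J n where
  toFun := valC z
  map_add' b b' := Cochain.ext _ _ fun p q h => ModuleCat.hom_ext (LinearMap.ext fun x => by
    rw [Cochain.add_v, valC_v, valC_v, valC_v, ModuleCat.hom_add, LinearMap.add_apply, valV_apply, valV_apply,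
      valV_apply, map_add])
  map_smul' c b := Cochain.ext _ _ fun p q h => ModuleCat.hom_ext (LinearMap.ext fun x => by
    rw [RingHom.id_apply, Cochain.smul_v, valC_v, valC_v, ModuleCat.hom_smul, LinearMap.smul_apply, valV_apply,
      valV_apply, map_smul])

theorem coLin_smul {M : ModuleCat.{u} P} (c : B) (y : (coext P B).obj M) (b : resB P B) :
    coLin (c • y) b = coLin y (mulR b c) := rfl

variable (F J) in
/-- `Hom_B(B ⊗ F, Hom_P(B, J)) → Hom_P(B, Hom_P(F, J))` -/
def coHom : DRing.homCx ((DRingKP.bc (algebraMap P B)).obj F) (coJ (B := B) J) ⟶ coJ (B := B) (DRing.homCx F J) where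
  f n := ModuleCat.ofHom (Y := (coJ (B := B) (DRing.homCx F J)).X n)
    { toFun := fun z => (ModuleCat.CoextendScalars.equiv (algebraMap P B)
        ((DRing.homCx F J).X n)).symm (valL (show Cochain _ _ n from z))
      map_add' := fun z z' => by
        refine (ModuleCat.CoextendScalars.equiv (algebraMap P B) ((DRing.homCx F J).X n)).injective ?_
        refine LinearMap.ext fun b => Cochain.ext _ _ fun p q h => ModuleCat.hom_ext (LinearMap.ext fun x => ?_)
        change ((valC _ b).v p q h).hom x = ((valC _ b + valC _ b).v p q h).hom x
        rw [Cochain.add_v, valC_v, valC_v, valC_v, ModuleCat.hom_add, LinearMap.add_apply, valV_apply, valV_apply,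
          valV_apply]
        erw [Cochain.add_v]
        rw [ModuleCat.hom_add, LinearMap.add_apply]
        rfl
      map_smul' := fun c z => by
        refine (ModuleCat.CoextendScalars.equiv (algebraMap P B) ((DRing.homCx F J).X n)).injective ?_
        refine LinearMap.ext fun b => Cochain.ext _ _ fun p q h => ModuleCat.hom_ext (LinearMap.ext fun x => ?_)
        change ((valC _ b).v p q h).hom x = ((valC _ (mulR b c)).v p q h).hom x
        rw [valC_v, valC_v, valV_apply, valV_apply]
        erw [Cochain.smul_v]
        rw [ModuleCat.hom_smul, LinearMap.smul_apply]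
        rfl }
  comm' n m hnm := by
    obtain rfl : n + 1 = m := hnm
    refine ModuleCat.hom_ext (LinearMap.ext fun z => ?_)
    refine (ModuleCat.CoextendScalars.equiv (algebraMap P B) ((DRing.homCx F J).X (n + 1))).injective ?_
    refine LinearMap.ext fun b => ?_
    change δ n (n + 1) (valC (show Cochain _ _ n from z) b) = valC (δ n (n + 1) (show Cochain _ _ n from z)) b
    refine Cochain.ext _ _ fun p q h => ModuleCat.hom_ext (LinearMap.ext fun x => ?_)
    rw [δ_v n (n + 1) rfl _ p q h (p + n) (p + 1) (by lia) rfl, valC_v, valC_v, valC_v, valV_apply,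
      δ_v n (n + 1) rfl _ p q h (p + n) (p + 1) (by lia) rfl]
    simp only [ModuleCat.hom_add, LinearMap.add_apply, Units.smul_def, ModuleCat.hom_zsmul, LinearMap.smul_apply,
      ModuleCat.hom_comp, LinearMap.comp_apply, map_add, map_zsmul, valV_apply]
    rfl

theorem isIso_coHom (F J : DRing.Cx P) : IsIso (coHom (B := B) F J) := by
  haveI : ∀ n, IsIso ((coHom (B := B) F J).f n) := fun n => by
    refine (ConcreteCategory.isIso_iff_bijective _).2 ⟨fun z z' h => ?_, fun g => ?_⟩
    · refine Cochain.ext _ _ fun p q hpq => DualCx.hom_ext_unit1 fun x => ?_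
      refine (ModuleCat.CoextendScalars.equiv (algebraMap P B) (J.X q)).injective (LinearMap.ext fun b => ?_)
      have h1 := congrArg (fun y => ((show Cochain F J n from coLin y b).v p q hpq).hom x) h
      change ((valC _ b).v p q hpq).hom x = ((valC _ b).v p q hpq).hom x at h1
      rw [valC_v, valC_v, valV_apply, valV_apply] at h1
      exact h1
    · let gl : resB P B →ₗ[P] Cochain F J n := coLin g
      let w : ∀ p q, p + n = q → (F.X p ⟶ (DualCx.res P B).obj ((coext P B).obj (J.X q))) := fun p q hpq =>
        ModuleCat.ofHom (Y := (DualCx.res P B).obj ((coext P B).obj (J.X q)))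
          { toFun := fun x => (ModuleCat.CoextendScalars.equiv (algebraMap P B) (J.X q)).symm
              { toFun := fun b => ((gl b).v p q hpq).hom x
                map_add' := fun b b' => by rw [map_add, Cochain.add_v, ModuleCat.hom_add, LinearMap.add_apply]
                map_smul' := fun c b => by
                  rw [map_smul, Cochain.smul_v, ModuleCat.hom_smul, LinearMap.smul_apply, RingHom.id_apply] }
            map_add' := fun x y => by
              refine (ModuleCat.CoextendScalars.equiv (algebraMap P B) (J.X q)).injective (LinearMap.ext fun b => ?_)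
              exact map_add ((gl b).v p q hpq).hom x y
            map_smul' := fun c x => by
              refine (ModuleCat.CoextendScalars.equiv (algebraMap P B) (J.X q)).injective (LinearMap.ext fun b => ?_)
              change ((gl b).v p q hpq).hom (c • x) =
                ((gl (mulR b (algebraMap P B c))).v p q hpq).hom x
              rw [mulR_algebraMap]
              rw [map_smul, map_smul, Cochain.smul_v, ModuleCat.hom_smul, LinearMap.smul_apply] }
      refine ⟨(Cochain.mk fun p q hpq => ((ModuleCat.extendRestrictScalarsAdj.{u, u} (algebraMap P B)).homEquiv _ _).symm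
        (w p q hpq) : Cochain _ (coJ (B := B) J) n), ?_⟩
      refine (ModuleCat.CoextendScalars.equiv (algebraMap P B) ((DRing.homCx F J).X n)).injective ?_
      refine LinearMap.ext fun b => Cochain.ext _ _ fun p q hpq => ModuleCat.hom_ext (LinearMap.ext fun x => ?_)
      change ((valC _ b).v p q hpq).hom x = ((gl b).v p q hpq).hom x
      rw [valC_v, valV_apply]
      erw [Cochain.mk_v]
      have h2 := congrArg (fun t => coLin (t.hom x) b)
        (((ModuleCat.extendRestrictScalarsAdj.{u, u} (algebraMap P B)).homEquiv _ _).apply_symm_apply (w p q hpq))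
      exact h2
  exact HomologicalComplex.Hom.isIso_of_components _

end Coext

section Shift

variable {A : Type u} [CommRing A]

/-- shifting the target of a Hom complex -/
theorem nonempty_shiftIso (C L : DRing.Cx A) (a : ℤ) :
    Nonempty (DRing.homCx C (L⟦a⟧) ≅ (DRing.homCx C L)⟦a⟧) := by
  let φ : (DRing.homCx C L)⟦a⟧ ⟶ DRing.homCx C (L⟦a⟧) :=
    { f := fun n => ModuleCat.ofHom (Y := (DRing.homCx C (L⟦a⟧)).X n)
        { toFun := fun z => (show Cochain C L (n + a) from z).rightShift a n rfl
          map_add' := fun z z' => Cochain.rightShift_add _ _ _ _ _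
          map_smul' := fun c z => Cochain.rightShift_smul _ _ _ _ _ }
      comm' := fun n m hnm => by
        obtain rfl : n + 1 = m := hnm
        refine ModuleCat.hom_ext (LinearMap.ext fun z => ?_)
        change δ n (n + 1) ((show Cochain C L (n + a) from z).rightShift a n rfl) =
          (a.negOnePow • δ (n + a) (n + 1 + a) (show Cochain C L (n + a) from z)).rightShift a (n + 1) rfl
        have h := (show Cochain C L (n + a) from z).δ_rightShift a n (n + 1) rfl (n + 1 + a) rfl
        rw [Cochain.rightShift_units_smul]
        exact h }
  haveI : ∀ n, IsIso (φ.f n) := fun n => (ConcreteCategory.isIso_iff_bijective _).2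
    (Cochain.rightShiftAddEquiv C L (n + a) a n rfl).bijective
  haveI := HomologicalComplex.Hom.isIso_of_components φ
  exact ⟨(asIso φ).symm⟩

end Shift

end

end Groth.Agent.DualBC
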