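/- Evaluation of a base changed complex into the dual of the base changed dual. -/
import Groth.Agent.RingBidual.Single
import Groth.Agent.DualCx.LocD

set_option autoImplicit false
set_option maxHeartbeats 1000000
set_option linter.style.haveILetI false
set_option backward.isDefEq.respectTransparency false
set_option backward.isDefEq.respectTransparency.types false
universe u

namespace Groth.Agent.DualBC

open CategoryTheory Limits CochainComplex HomComplex HomologicalComplex
open Groth.Agent.DualCx (ext)

attribute [local instance] HasDerivedCategory.standard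

noncomputable section

variable {A P : Type u} [CommRing A] [CommRing P] (φ : A →+* P)

/-- termwise base change -/
abbrev bc : DRing.Cx A ⥤ DRing.Cx P := DRingKP.bc φ

/-- termwise restriction -/
abbrev rc : DRing.Cx P ⥤ DRing.Cx A :=
  (ModuleCat.restrictScalars.{u} φ).mapHomologicalComplex (ComplexShape.up ℤ)

/-- the adjunction on complexes -/
abbrev adjC : bc φ ⊣ rc φ :=
  KInj.mapHomologicalComplexAdj (ModuleCat.extendRestrictScalarsAdj.{u, u} φ) (ComplexShape.up ℤ)

variable {J : DRing.Cx A} {JP : DRing.Cx P} (s : (bc φ).obj J ⟶ JP)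

/-- base change of a cochain -/
def bcC (C : DRing.Cx A) (n : ℤ) (z : Cochain C J n) : Cochain ((bc φ).obj C) JP n :=
  (z.map (ext φ)).comp (Cochain.ofHom s) (add_zero n)

theorem bcC_v (C : DRing.Cx A) (n : ℤ) (z : Cochain C J n) (p q : ℤ) (h : p + n = q) :
    (bcC φ s C n z).v p q h = (ext φ).map (z.v p q h) ≫ s.f q := by
  simp [bcC]

/-- base change of Hom complexes -/
def bcHom (C : DRing.Cx A) : DRing.homCx C J ⟶ (rc φ).obj (DRing.homCx ((bc φ).obj C) JP) where
  f n := ModuleCat.ofHom (Y := ((rc φ).obj (DRing.homCx ((bc φ).obj C) JP)).X n)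
    { toFun := fun z => (show Cochain _ _ n from bcC φ s C n z)
      map_add' := fun z z' => Cochain.ext _ _ fun p q h => by
        change (bcC φ s C n ((show Cochain C J n from z) + (show Cochain C J n from z'))).v p q h = _
        rw [bcC_v, Cochain.add_v, Functor.map_add, Preadditive.add_comp, ← bcC_v φ s C n _ p q h,
          ← bcC_v φ s C n _ p q h]
        rfl
      map_smul' := fun a z => Cochain.ext _ _ fun p q h => by
        change (bcC φ s C n (a • (show Cochain C J n from z))).v p q h =
          (φ a • bcC φ s C n z).v p q h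
        rw [bcC_v, Cochain.smul_v, Cochain.smul_v, DualCx.map_smul_hom, Linear.smul_comp, bcC_v] }
  comm' n m hnm := by
    refine ModuleCat.hom_ext (LinearMap.ext fun (z : Cochain C J n) => ?_)
    change δ n m (bcC φ s C n z) = bcC φ s C m (δ n m z)
    rw [bcC, bcC, δ_comp_zero_cochain _ _ m hnm, δ_ofHom, Cochain.comp_zero, zero_add, δ_map]

theorem bcHom_apply (C : DRing.Cx A) (n : ℤ) (z : Cochain C J n) :
    (show Cochain ((bc φ).obj C) JP n from ((bcHom φ s C).f n).hom z) = bcC φ s C n z := rfl

theorem bcHom_natural {C C' : DRing.Cx A} (g : C' ⟶ C) :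
    RHomMod.preMap g J ≫ bcHom φ s C' = bcHom φ s C ≫ (rc φ).map (RHomMod.preMap ((bc φ).map g) JP) := by
  refine HomologicalComplex.hom_ext _ _ fun n => ModuleCat.hom_ext (LinearMap.ext fun (z : Cochain C J n) => ?_)
  change bcC φ s C' n ((Cochain.ofHom g).comp z (zero_add n)) =
    (Cochain.ofHom ((bc φ).map g)).comp (bcC φ s C n z) (zero_add n)
  refine Cochain.ext _ _ fun p q h => ?_
  rw [bcC_v, Cochain.zero_cochain_comp_v, Cochain.zero_cochain_comp_v, bcC_v, Functor.map_comp, Category.assoc,
    Cochain.ofHom_v, Cochain.ofHom_v]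
  rfl

variable (J JP) in
/-- the dual of the base changed dual -/
@[simps]
def G2 : DRing.Cx A ⥤ DRing.Cx P where
  obj K := DRing.homCx ((bc φ).obj (DRing.homCx K J)) JP
  map f := RHomMod.preMap ((bc φ).map (RHomMod.preMap f J)) JP
  map_id K := by rw [RingBidual.preMap_id, CategoryTheory.Functor.map_id, RingBidual.preMap_id]
  map_comp f g := by rw [RHomMod.preMap_comp, Functor.map_comp, RHomMod.preMap_comp]

/-- the evaluation -/
def τ (K : DRing.Cx A) : (bc φ).obj K ⟶ (G2 φ J JP).obj K :=
  ((adjC φ).homEquiv _ _).symm (RingBidual.ev J K ≫ bcHom φ s (DRing.homCx K J))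

theorem τ_naturality {K K' : DRing.Cx A} (f : K ⟶ K') :
    (bc φ).map f ≫ τ φ s K' = τ φ s K ≫ (G2 φ J JP).map f := by
  rw [τ, τ, ← Adjunction.homEquiv_naturality_left_symm, ← Adjunction.homEquiv_naturality_right_symm]
  congr 1
  rw [← Category.assoc, RingBidual.ev_naturality, Category.assoc, Category.assoc, RingBidual.DD_map,
    bcHom_natural]
  rfl

/-- `P[0]` from `A[0]` -/
def oneIso : (bc φ).obj (RingBidual.one A) ≅ RingBidual.one P :=
  (HomologicalComplex.singleMapHomologicalComplex (ext φ) (ComplexShape.up ℤ) 0).app (ModuleCat.of A A) ≪≫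
    (HomologicalComplex.single (ModuleCat.{u} P) (ComplexShape.up ℤ) 0).mapIso
      (letI := φ.toAlgebra; ((Algebra.TensorProduct.rid A P P).toLinearEquiv.toModuleIso :
        (ext φ).obj (ModuleCat.of A A) ≅ ModuleCat.of P P))

end

end Groth.Agent.DualBC
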