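/- The evaluation at the free module of rank one. -/
import Groth.Agent.DualBC.Tau

set_option autoImplicit false
set_option maxHeartbeats 1000000
set_option linter.style.haveILetI false
set_option backward.isDefEq.respectTransparency false
set_option backward.isDefEq.respectTransparency.types false
universe u

namespace Groth.Agent.DualBC

open CategoryTheory Limits CochainComplex HomComplex HomologicalComplex
open Groth.Agent.DualCx (ext)

attribute [local instance] HasDerivedCategory.standard

noncomputable section

variable {A P : Type u} [CommRing A] [CommRing P] (φ : A →+* P)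

theorem oneIso_spec :
    (((adjC φ).homEquiv _ _ (oneIso φ).hom).f 0).hom (RingBidual.unit0 A) =
      RingBidual.unit0 P := by
  refine (ModuleCat.mono_iff_injective (singleObjXSelf (ComplexShape.up ℤ) 0 (ModuleCat.of P P)).hom).1
    inferInstance ?_
  rw [RingBidual.unit0_spec]
  rw [Adjunction.homEquiv_unit]
  letI := φ.toAlgebra
  simp [oneIso, HomologicalComplex.singleMapHomologicalComplex_hom_app_self,
    HomologicalComplex.single_map_f_self]
  erw [RingBidual.unit0_spec A, Iso.inv_hom_id_apply]
  exact one_smul A (1 : P)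

variable {J : DRing.Cx A} {JP : DRing.Cx P} (s : (bc φ).obj J ⟶ JP)

theorem τ_one :
    τ φ s (RingBidual.one A) ≫ RHomMod.preMap ((bc φ).map (RingBidual.uMap J)) JP =
      (oneIso φ).hom ≫ RingBidual.cMap JP ≫ RHomMod.preMap s JP := by
  apply ((adjC φ).homEquiv _ _).injective
  rw [Adjunction.homEquiv_naturality_right, Adjunction.homEquiv_naturality_right, τ, Equiv.apply_symm_apply,
    Category.assoc, ← bcHom_natural, ← Category.assoc, RingBidual.ev_one_comp]
  refine HomologicalComplex.from_single_hom_ext (RingBidual.singleObj_ext _ _ ?_)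
  change bcC φ s J 0 (((RingBidual.cMap J).f 0).hom (RingBidual.unit0 A)) =
    (Cochain.ofHom s).comp (((RingBidual.cMap JP).f 0).hom
      ((((adjC φ).homEquiv _ _ (oneIso φ).hom).f 0).hom (RingBidual.unit0 A))) (zero_add 0)
  rw [oneIso_spec]
  rw [show (RingBidual.cMap J).f 0 = _ from mkHomFromSingle_f _ _,
    show (RingBidual.cMap JP).f 0 = _ from mkHomFromSingle_f _ _, ModuleCat.hom_comp, ModuleCat.hom_comp,
    LinearMap.comp_apply, LinearMap.comp_apply]
  erw [RingBidual.unit0_spec A, RingBidual.unit0_spec P]
  have hA : (RingBidual.scal J).hom (1 : A) = Cochain.ofHom (𝟙 J) := one_smul A _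
  have hP : (RingBidual.scal JP).hom (1 : P) = Cochain.ofHom (𝟙 JP) := one_smul P _
  erw [hA, hP]
  refine Cochain.ext₀ _ _ fun p => ?_
  rw [bcC_v, Cochain.zero_cochain_comp_v, Cochain.ofHom_v, Cochain.ofHom_v, Cochain.ofHom_v]
  simp

theorem quasiIso_τ_one [JP.IsKInjective] [QuasiIso s] {ω : Dual.D P} (e : DerivedCategory.Q.obj JP ≅ ω)
    (hω : Dual.IsDualizing P ω) : QuasiIso (τ φ s (RingBidual.one A)) := by
  haveI := RingBidual.quasiIso_cMap JP e hω
  haveI := RHomMod.quasiIso_preMap s JP
  haveI := RHomMod.quasiIso_preMap ((bc φ).map (RingBidual.uMap J)) JP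
  haveI : QuasiIso (τ φ s (RingBidual.one A) ≫ RHomMod.preMap ((bc φ).map (RingBidual.uMap J)) JP) := by
    rw [τ_one]; infer_instance
  exact quasiIso_of_comp_right _ (RHomMod.preMap ((bc φ).map (RingBidual.uMap J)) JP)

end

end Groth.Agent.DualBC
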