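/- The evaluation is a quasi-isomorphism on complexes with finite cohomology. -/
import Groth.Agent.RingBidual.Main
import Groth.Agent.DualBC.One

set_option autoImplicit false
set_option maxHeartbeats 1000000
set_option linter.style.haveILetI false
set_option backward.isDefEq.respectTransparency false
set_option backward.isDefEq.respectTransparency.types false
universe u

namespace Groth.Agent.DualBC

open CategoryTheory Limits CochainComplex HomComplex HomologicalComplex
open Groth.Agent.DualCx (ext)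
open Groth.Agent.RingBidual (sgl shortExact_sgl isStrictlyLE_hom isStrictlyGE_hom isIso_τ₁ mono_τ₂ epi_τ₂)

attribute [local instance] HasDerivedCategory.standard

noncomputable section

variable {A P : Type u} [CommRing A] [CommRing P] (φ : A →+* P) [PreservesFiniteLimits (ext φ)]
  {J : DRing.Cx A} {JP : DRing.Cx P} (s : (bc φ).obj J ⟶ JP)

/-- the evaluation is bijective in degree `i` -/
def GoodAt (K : DRing.Cx A) (i : ℤ) : Prop := IsIso (homologyMap (τ φ s K) i)

/-- the evaluation is a quasi-isomorphism -/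
def Good (K : DRing.Cx A) : Prop := ∀ i, GoodAt φ s K i

theorem goodAt_of_isZero {K : DRing.Cx A} {i : ℤ} (h₁ : IsZero (((bc φ).obj K).homology i))
    (h₂ : IsZero (((G2 φ J JP).obj K).homology i)) : GoodAt φ s K i :=
  h₁.isIso h₂ _

theorem quasiIso_bc_map {K K' : DRing.Cx A} (f : K ⟶ K') [QuasiIso f] : QuasiIso ((bc φ).map f) := inferInstance

variable [J.IsKInjective] [JP.IsKInjective]

theorem quasiIso_G2_map {K K' : DRing.Cx A} (f : K ⟶ K') [QuasiIso f] : QuasiIso ((G2 φ J JP).map f) := by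
  haveI := RHomMod.quasiIso_preMap f J
  haveI := quasiIso_bc_map φ (RHomMod.preMap f J)
  exact RHomMod.quasiIso_preMap ((bc φ).map (RHomMod.preMap f J)) JP

theorem goodAt_iff {K K' : DRing.Cx A} (f : K ⟶ K') [QuasiIso f] (i : ℤ) :
    GoodAt φ s K i ↔ GoodAt φ s K' i := by
  haveI := quasiIso_G2_map φ (J := J) (JP := JP) f
  haveI := quasiIso_bc_map φ f
  have h : homologyMap ((bc φ).map f) i ≫ homologyMap (τ φ s K') i =
      homologyMap (τ φ s K) i ≫ homologyMap ((G2 φ J JP).map f) i := by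
    rw [← homologyMap_comp, ← homologyMap_comp, τ_naturality]
  constructor <;> intro hg <;> haveI : IsIso _ := hg
  · haveI : IsIso (homologyMap ((bc φ).map f) i ≫ homologyMap (τ φ s K') i) := by rw [h]; infer_instance
    exact IsIso.of_isIso_comp_left (homologyMap ((bc φ).map f) i) _
  · haveI : IsIso (homologyMap (τ φ s K) i ≫ homologyMap ((G2 φ J JP).map f) i) := by rw [← h]; infer_instance
    exact IsIso.of_isIso_comp_right _ (homologyMap ((G2 φ J JP).map f) i)

omit [PreservesFiniteLimits (ext φ)] [J.IsKInjective] [JP.IsKInjective] in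
theorem isStrictlyLE_bc (C : DRing.Cx A) (m : ℤ) [C.IsStrictlyLE m] : ((bc φ).obj C).IsStrictlyLE m :=
  (CochainComplex.isStrictlyLE_iff _ _).2 fun i hi => (ext φ).map_isZero (C.isZero_of_isStrictlyLE m i hi)

omit [PreservesFiniteLimits (ext φ)] [J.IsKInjective] [JP.IsKInjective] in
theorem isStrictlyGE_bc (C : DRing.Cx A) (m : ℤ) [C.IsStrictlyGE m] : ((bc φ).obj C).IsStrictlyGE m :=
  (CochainComplex.isStrictlyGE_iff _ _).2 fun i hi => (ext φ).map_isZero (C.isZero_of_isStrictlyGE m i hi)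

omit [J.IsKInjective] [JP.IsKInjective] in
theorem isZero_bc_homology {K : DRing.Cx A} {i : ℤ} (h : IsZero (K.homology i)) :
    IsZero (((bc φ).obj K).homology i) :=
  ((ext φ).map_isZero h).of_iso ((K.sc i).mapHomologyIso (ext φ))

section Bounds

variable (a b a' b' : ℤ) [J.IsStrictlyGE a] [J.IsStrictlyLE b] [JP.IsStrictlyGE a'] [JP.IsStrictlyLE b']
include a b a' b'

theorem goodAt_of_isGE {K : DRing.Cx A} (m : ℤ) [K.IsGE m] (i : ℤ) (hi : i < m) (hi' : i < a' - b + m) :
    GoodAt φ s K i := by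
  refine goodAt_of_isZero φ s (isZero_bc_homology φ (K.isZero_of_isGE m i hi)) ?_
  haveI := quasiIso_G2_map φ (J := J) (JP := JP) (K.πTruncGE m)
  haveI := isStrictlyLE_hom J b (K.truncGE m) m
  haveI := isStrictlyLE_bc φ (DRing.homCx (K.truncGE m) J) (b - m)
  haveI := isStrictlyGE_hom JP a' ((bc φ).obj (DRing.homCx (K.truncGE m) J)) (b - m)
  exact (ShortComplex.isZero_homology_of_isZero_X₂ _
    ((DRing.homCx ((bc φ).obj (DRing.homCx (K.truncGE m) J)) JP).isZero_of_isStrictlyGE
      (a' - (b - m)) i (by omega))).of_iso (isoOfQuasiIsoAt ((G2 φ J JP).map (K.πTruncGE m)) i)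

theorem goodAt_of_isLE {K : DRing.Cx A} (m : ℤ) [K.IsLE m] (i : ℤ) (hi : m < i) (hi' : b' - a + m < i) :
    GoodAt φ s K i := by
  refine goodAt_of_isZero φ s (isZero_bc_homology φ (K.isZero_of_isLE m i hi)) ?_
  haveI := quasiIso_G2_map φ (J := J) (JP := JP) (K.ιTruncLE m)
  haveI := isStrictlyGE_hom J a (K.truncLE m) m
  haveI := isStrictlyGE_bc φ (DRing.homCx (K.truncLE m) J) (a - m)
  haveI := isStrictlyLE_hom JP b' ((bc φ).obj (DRing.homCx (K.truncLE m) J)) (a - m)
  exact (ShortComplex.isZero_homology_of_isZero_X₂ _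
    ((DRing.homCx ((bc φ).obj (DRing.homCx (K.truncLE m) J)) JP).isZero_of_isStrictlyLE
      (b' - (a - m)) i (by omega))).of_iso (isoOfQuasiIsoAt ((G2 φ J JP).map (K.ιTruncLE m)) i).symm

theorem good_of_acyclic {K : DRing.Cx A} (h : K.Acyclic) : Good φ s K := fun i => by
  haveI : K.IsGE (i + 1 + (b - a').natAbs) := (CochainComplex.isGE_iff _ _).2 fun j _ => h j
  exact goodAt_of_isGE φ s a b a' b' (i + 1 + (b - a').natAbs) i (by omega) (by omega)

end Bounds

variable (hJ : ∀ n, Injective (J.X n)) (hJP : ∀ n, Injective (JP.X n))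
include hJ hJP

omit [J.IsKInjective] [JP.IsKInjective] in
/-- the evaluation on a short exact sequence -/
theorem exists_τSeq {S : ShortComplex (DRing.Cx A)} (hS : S.ShortExact) :
    ∃ (S₀ S' : ShortComplex (DRing.Cx P)) (_ : S₀.ShortExact) (_ : S'.ShortExact) (f : S₀ ⟶ S'),
      (∀ i, GoodAt φ s S.X₁ i ↔ IsIso (homologyMap f.τ₁ i)) ∧
      (∀ i, GoodAt φ s S.X₂ i ↔ IsIso (homologyMap f.τ₂ i)) ∧
        (∀ i, GoodAt φ s S.X₃ i ↔ IsIso (homologyMap f.τ₃ i)) := by
  obtain ⟨w, hw⟩ := RingBidual.shortExact_homCx J hJ hS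
  obtain ⟨w', hw'⟩ := RingBidual.shortExact_homCx JP hJP (hw.map_of_exact (bc φ))
  exact ⟨S.map (bc φ), _, hS.map_of_exact (bc φ), hw', ShortComplex.homMk (τ φ s S.X₁) (τ φ s S.X₂) (τ φ s S.X₃)
    (τ_naturality φ s S.f).symm (τ_naturality φ s S.g).symm, fun _ => Iff.rfl, fun _ => Iff.rfl, fun _ => Iff.rfl⟩

omit [J.IsKInjective] [JP.IsKInjective] in
theorem good_X₃ {S : ShortComplex (DRing.Cx A)} (hS : S.ShortExact) (h₁ : Good φ s S.X₁) (h₂ : Good φ s S.X₂) :
    Good φ s S.X₃ := fun i => by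
  obtain ⟨S₀, S', hS₀, hS', f, e₁, e₂, e₃⟩ := exists_τSeq φ s hJ hJP hS
  have h₁' := fun j => (e₁ j).1 (h₁ j)
  have h₂' := fun j => (e₂ j).1 (h₂ j)
  exact (e₃ i).2 (HomologicalComplex.HomologySequence.isIso_homologyMap_τ₃ f hS₀ hS' i
    (haveI := h₁' i; inferInstance) (h₂' i) (fun j _ => h₁' j) fun j _ => (haveI := h₂' j; inferInstance))

omit [J.IsKInjective] [JP.IsKInjective] in
theorem good_X₁ {S : ShortComplex (DRing.Cx A)} (hS : S.ShortExact) (h₂ : Good φ s S.X₂) (h₃ : Good φ s S.X₃) :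
    Good φ s S.X₁ := fun j => by
  obtain ⟨S₀, S', hS₀, hS', f, e₁, e₂, e₃⟩ := exists_τSeq φ s hJ hJP hS
  have h₂' := fun j => (e₂ j).1 (h₂ j)
  have h₃' := fun j => (e₃ j).1 (h₃ j)
  exact (e₁ j).2 (isIso_τ₁ f hS₀ hS' (j - 1) j (by simp) (haveI := h₂' (j - 1); inferInstance) (h₃' _) (h₂' j)
    (haveI := h₃' j; inferInstance))

omit [J.IsKInjective] [JP.IsKInjective] in
theorem goodAt_X₂ {S : ShortComplex (DRing.Cx A)} (hS : S.ShortExact) (i : ℤ) (h₁ : GoodAt φ s S.X₁ i)
    (h₁' : GoodAt φ s S.X₁ (i + 1)) (h₃ : GoodAt φ s S.X₃ (i - 1)) (h₃' : GoodAt φ s S.X₃ i) :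
    GoodAt φ s S.X₂ i := by
  obtain ⟨S₀, S', hS₀, hS', f, e₁, e₂, e₃⟩ := exists_τSeq φ s hJ hJP hS
  haveI := (e₁ i).1 h₁
  haveI := (e₁ (i + 1)).1 h₁'
  haveI := (e₃ (i - 1)).1 h₃
  haveI := (e₃ i).1 h₃'
  haveI := mono_τ₂ f hS₀ hS' (i - 1) i (by simp) inferInstance inferInstance inferInstance
  haveI := epi_τ₂ f hS₀ hS' i (i + 1) (by simp) inferInstance inferInstance inferInstance
  exact (e₂ i).2 (isIso_of_mono_of_epi _)

omit [J.IsKInjective] [JP.IsKInjective] in
theorem good_X₂ {S : ShortComplex (DRing.Cx A)} (hS : S.ShortExact) (h₁ : Good φ s S.X₁) (h₃ : Good φ s S.X₃) :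
    Good φ s S.X₂ := fun i => goodAt_X₂ φ s hJ hJP hS i (h₁ _) (h₁ _) (h₃ _) (h₃ _)

variable (a b a' b' : ℤ) [J.IsStrictlyGE a] [J.IsStrictlyLE b] [JP.IsStrictlyGE a'] [JP.IsStrictlyLE b']
  [IsNoetherianRing A] [QuasiIso s] {ω : Dual.D P} (e : DerivedCategory.Q.obj JP ≅ ω)
  (hω : Dual.IsDualizing P ω)

omit hJ hJP in
theorem good_iso {K K' : DRing.Cx A} (i : K ≅ K') (h : Good φ s K) : Good φ s K' :=
  fun j => (goodAt_iff φ s i.hom j).1 (h j)

include a b a' b' e hω

theorem good_sgl_self (k : ℤ) : Good φ s (sgl k (ModuleCat.of A A)) := by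
  have h0 : Good φ s (sgl 0 (ModuleCat.of A A)) := fun i => by
    haveI := quasiIso_τ_one φ s e hω
    exact (inferInstance : IsIso (homologyMap (τ φ s (RingBidual.one A)) i))
  have step : ∀ k : ℤ, (Good φ s (sgl (k + 1) (ModuleCat.of A A)) → Good φ s (sgl k (ModuleCat.of A A))) ∧
      (Good φ s (sgl k (ModuleCat.of A A)) → Good φ s (sgl (k + 1) (ModuleCat.of A A))) := fun k => by
    let S := sgl (k + 1) (ModuleCat.of A A)
    have hS := HomologicalComplex.shortExact_of_degreewise_shortExact _ fun n =>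
      (KFlat.coneSplitting (𝟙 S) n).shortExact
    have h₂ : Good φ s (KFlat.coneSC (𝟙 S)).X₂ := good_of_acyclic φ s a b a' b'
      (KFlat.mappingCone_acyclic (𝟙 S))
    let i₀ : (KFlat.coneSC (𝟙 S)).X₃ ≅ sgl k (ModuleCat.of A A) :=
      ((CochainComplex.singleFunctors (ModuleCat.{u} A)).shiftIso 1 k (k + 1) (add_comm 1 k)).app _
    refine ⟨fun h => good_iso φ s i₀ (good_X₃ φ s hJ hJP hS h h₂), fun h => ?_⟩
    have h3 := good_iso φ s i₀.symm h
    have h4 : Good φ s (KFlat.coneSC (𝟙 S)).X₁ := good_X₁ φ s hJ hJP (S := KFlat.coneSC (𝟙 S)) hS h₂ h3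
    exact h4
  induction k using Int.induction_on with
  | zero => exact h0
  | succ n ih => exact (step n).2 ih
  | pred n ih =>
    have := (step (-(n : ℤ) - 1)).1
    rw [show -(n : ℤ) - 1 + 1 = -n by ring] at this
    exact this ih

theorem good_sgl_free (k : ℤ) : ∀ r : ℕ, Good φ s (sgl k (ModuleCat.of A (Fin r → A))) := fun r => by
  induction r with
  | zero =>
    refine good_of_acyclic φ s a b a' b' fun i => ?_
    haveI : Subsingleton (ModuleCat.of A (Fin 0 → A)) := inferInstanceAs (Subsingleton (Fin 0 → A))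
    exact (exactAt_iff_isZero_homology _ _).2 (ShortComplex.isZero_homology_of_isZero_X₂ _
      ((HomologicalComplex.eval _ _ i).map_isZero
        ((CochainComplex.singleFunctor _ k).map_isZero (ModuleCat.isZero_of_subsingleton _))))
  | succ r ih =>
    let e' : (A × (Fin r → A)) ≃ₗ[A] (Fin (r + 1) → A) := Fin.consLinearEquiv A (fun _ : Fin (r + 1) => A)
    let f : ModuleCat.of A A ⟶ ModuleCat.of A (Fin (r + 1) → A) :=
      ModuleCat.ofHom (e'.toLinearMap.comp (LinearMap.inl A A (Fin r → A)))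
    let g : ModuleCat.of A (Fin (r + 1) → A) ⟶ ModuleCat.of A (Fin r → A) :=
      ModuleCat.ofHom ((LinearMap.snd A A (Fin r → A)).comp e'.symm.toLinearMap)
    let S : ShortComplex (ModuleCat.{u} A) := ShortComplex.mk f g
      (ModuleCat.hom_ext (LinearMap.ext fun c => by simp [f, g]))
    have hS : S.ShortExact :=
      { exact := (ShortComplex.moduleCat_exact_iff _).2 fun y hy => by
          obtain ⟨⟨c, v⟩, rfl⟩ := e'.surjective y
          have hv : v = 0 := by simpa [S, g] using hy
          exact ⟨c, by simp [S, f, hv]⟩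
        mono_f := (ModuleCat.mono_iff_injective _).2 (e'.injective.comp LinearMap.inl_injective)
        epi_g := (ModuleCat.epi_iff_surjective _).2
          ((LinearMap.snd_surjective (R := A) (M := A) (M₂ := Fin r → A)).comp e'.symm.surjective) }
    have h4 := good_X₂ φ s hJ hJP (S := S.map (CochainComplex.singleFunctor (ModuleCat.{u} A) k))
      (shortExact_sgl hS k) (good_sgl_self φ s hJ hJP a b a' b' e hω k) ih
    exact h4

theorem good_sgl (k : ℤ) (M : ModuleCat.{u} A) [Module.Finite A M] : Good φ s (sgl k M) := by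
  suffices H : ∀ (n : ℕ) (M : ModuleCat.{u} A) [Module.Finite A M] (i : ℤ), b' - a + k < i + n → k < i + n →
      GoodAt φ s (sgl k M) i from fun i => H ((b' - a).natAbs + (k - i).natAbs + 1) M i (by omega) (by omega)
  intro n
  induction n with
  | zero =>
    intro M _ i h h'
    exact goodAt_of_isLE φ s a b a' b' k i (by omega) (by omega)
  | succ n ih =>
    have hE : ∀ (M : ModuleCat.{u} A) [Module.Finite A M] (i : ℤ), b' - a + k < i + (n + 1) → k < i + (n + 1) →
        ∀ (hK : ∀ (K : ModuleCat.{u} A) [Module.Finite A K], Mono (homologyMap (τ φ s (sgl k K)) (i + 1)) ∧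
          Epi (homologyMap (τ φ s (sgl k K)) (i + 1))),
        Epi (homologyMap (τ φ s (sgl k M)) i) ∧ ((∀ (K : ModuleCat.{u} A) [Module.Finite A K],
          Epi (homologyMap (τ φ s (sgl k K)) i)) → Mono (homologyMap (τ φ s (sgl k M)) i)) := by
      intro M _ i _ _ hK
      obtain ⟨r, π, hπ⟩ := Module.Finite.exists_fin' A M
      haveI : IsNoetherian A (Fin r → A) := inferInstance
      let S : ShortComplex (ModuleCat.{u} A) :=
        ShortComplex.mk (ModuleCat.ofHom (LinearMap.ker π).subtype) (ModuleCat.ofHom π)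
          (ModuleCat.hom_ext (LinearMap.ext fun x => x.2))
      have hS : S.ShortExact :=
        { exact := (ShortComplex.moduleCat_exact_iff _).2 fun y hy => ⟨⟨y, hy⟩, rfl⟩
          mono_f := (ModuleCat.mono_iff_injective _).2 Subtype.val_injective
          epi_g := (ModuleCat.epi_iff_surjective _).2 hπ }
      have hS₁ := shortExact_sgl hS k
      obtain ⟨w₀, hS₀⟩ := RingBidual.shortExact_homCx J hJ hS₁
      obtain ⟨w, hS₂⟩ := RingBidual.shortExact_homCx JP hJP (hS₀.map_of_exact (bc φ))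
      have hS₃ := hS₁.map_of_exact (bc φ)
      let f : (S.map (CochainComplex.singleFunctor (ModuleCat.{u} A) k)).map (bc φ) ⟶ ShortComplex.mk _ _ w :=
        ShortComplex.homMk (τ φ s _) (τ φ s _) (τ φ s _) (τ_naturality φ s _).symm (τ_naturality φ s _).symm
      haveI : Module.Finite A (LinearMap.ker π) := inferInstance
      haveI hF : ∀ j, IsIso (homologyMap f.τ₂ j) := fun j => good_sgl_free φ s hJ hJP a b a' b' e hω k r j
      constructor
      · exact HomologicalComplex.HomologySequence.epi_homologyMap_τ₃ f hS₃ hS₂ i inferInstance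
          (fun j hj => by obtain rfl : i + 1 = j := hj; exact (hK (ModuleCat.of A (LinearMap.ker π))).2)
          fun j _ => inferInstance
      · intro hE'
        exact HomologicalComplex.HomologySequence.mono_homologyMap_τ₃ f hS₃ hS₂ i
          (hE' (ModuleCat.of A (LinearMap.ker π))) inferInstance
          (fun j hj => by obtain rfl : i + 1 = j := hj; exact (hK (ModuleCat.of A (LinearMap.ker π))).1)
    intro M _ i h h'
    have hK : ∀ (K : ModuleCat.{u} A) [Module.Finite A K], Mono (homologyMap (τ φ s (sgl k K)) (i + 1)) ∧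
        Epi (homologyMap (τ φ s (sgl k K)) (i + 1)) := fun K _ => by
      haveI : IsIso (homologyMap (τ φ s (sgl k K)) (i + 1)) := ih K (i + 1) (by omega) (by omega)
      exact ⟨inferInstance, inferInstance⟩
    haveI := (hE M i (by omega) (by omega) hK).1
    haveI := (hE M i (by omega) (by omega) hK).2 fun K _ => (hE K i (by omega) (by omega) hK).1
    exact isIso_of_mono_of_epi _

theorem good_bounded (n : ℕ) : ∀ (K : DRing.Cx A) (p : ℤ) [K.IsGE p] [K.IsLE (p + n - 1)],
    (∀ i, Module.Finite A (K.homology i)) → Good φ s K := by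
  induction n with
  | zero =>
    intro K p _ _ _
    refine good_of_acyclic φ s a b a' b' fun i => (exactAt_iff_isZero_homology _ _).2 ?_
    by_cases hi : i < p
    · exact K.isZero_of_isGE p i hi
    · exact K.isZero_of_isLE (p + ((0 : ℕ) : ℤ) - 1) i (by omega)
  | succ n ih =>
    intro K p hp hq hK
    let S := K.shortComplexTruncLE p
    have hS : S.ShortExact := K.shortComplexTruncLE_shortExact p
    have hT : ∀ i, i ≤ p → Nonempty ((K.truncLE p).homology i ≅ K.homology i) := fun i hi => by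
      haveI : QuasiIsoAt (K.ιTruncLE p) i := K.quasiIsoAt_ιTruncLE p i hi
      exact ⟨isoOfQuasiIsoAt (K.ιTruncLE p) i⟩
    have hG : ∀ i, p + 1 ≤ i → Nonempty (K.homology i ≅ (K.truncGE (p + 1)).homology i) := fun i hi => by
      haveI : QuasiIsoAt (K.πTruncGE (p + 1)) i := K.quasiIsoAt_πTruncGE (p + 1) i hi
      exact ⟨isoOfQuasiIsoAt (K.πTruncGE (p + 1)) i⟩
    have hh := good_X₂ φ s hJ hJP (S := S) hS
    refine hh ?_ ?_
    · let T := K.truncLE p
      haveI : T.IsGE p := (CochainComplex.isGE_iff _ _).2 fun i hi => (exactAt_iff_isZero_homology _ _).2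
        ((K.isZero_of_isGE p i hi).of_iso (hT i hi.le).some)
      obtain ⟨M, ⟨e₁⟩⟩ := CochainComplex.exists_iso_single (T.truncGE p) p
      haveI : Module.Finite A M := by
        haveI := hK p
        haveI : QuasiIsoAt (T.πTruncGE p) p := inferInstance
        exact Module.Finite.equiv ((hT p le_rfl).some.symm ≪≫ isoOfQuasiIsoAt (T.πTruncGE p) p ≪≫
          (HomologicalComplex.homologyFunctor _ _ p).mapIso e₁ ≪≫
          singleObjHomologySelfIso (ComplexShape.up ℤ) p M).toLinearEquiv
      intro i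
      exact (goodAt_iff φ s (T.πTruncGE p) i).2 ((goodAt_iff φ s e₁.hom i).2 (good_sgl φ s hJ hJP a b a' b' e hω p M i))
    · haveI : (K.truncGE (p + 1)).IsLE (p + 1 + n - 1) := (CochainComplex.isLE_iff _ _).2 fun i hi =>
        (exactAt_iff_isZero_homology _ _).2
          ((K.isZero_of_isLE (p + ((n + 1 : ℕ) : ℤ) - 1) i (by omega)).of_iso (hG i (by omega)).some.symm)
      have hfin : ∀ i, Module.Finite A ((K.truncGE (p + 1)).homology i) := fun i => by
        by_cases hi : p + 1 ≤ i
        · haveI := hK i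
          exact Module.Finite.equiv (hG i hi).some.toLinearEquiv
        · haveI : Subsingleton ((K.truncGE (p + 1)).homology i) :=
            ModuleCat.subsingleton_of_isZero ((K.truncGE (p + 1)).isZero_of_isGE (p + 1) i (by omega))
          infer_instance
      exact fun i => (goodAt_iff φ s (K.shortComplexTruncLEX₃ToTruncGE p (p + 1)) i).2 (ih _ (p + 1) hfin i)

/-- **base changed biduality** -/
theorem good_of_finite (K : DRing.Cx A) (hK : ∀ i, Module.Finite A (K.homology i)) : Good φ s K := fun i => by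
  let c : ℕ := (b' - a).natAbs + (b - a').natAbs
  let N : ℤ := i + 1 + c
  let M : ℤ := i - 2 - c
  let T := K.truncLE N
  have hS := K.shortComplexTruncLE_shortExact N
  have hX : ∀ j, j ≤ i → GoodAt φ s (K.shortComplexTruncLE N).X₃ j := fun j hj =>
    (goodAt_iff φ s (K.shortComplexTruncLEX₃ToTruncGE N (N + 1)) j).2
      (goodAt_of_isGE φ s a b a' b' (N + 1) j (by omega) (by omega))
  suffices hT : ∀ j, (j = i ∨ j = i + 1) → GoodAt φ s T j from
    goodAt_X₂ φ s hJ hJP hS i (hT i (Or.inl rfl)) (hT (i + 1) (Or.inr rfl)) (hX _ (by omega)) (hX _ le_rfl)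
  intro j hj
  have hS' := T.shortComplexTruncLE_shortExact M
  have hB : Good φ s (T.shortComplexTruncLE M).X₃ := fun l => by
    refine (goodAt_iff φ s (T.shortComplexTruncLEX₃ToTruncGE M (M + 1)) l).2 ?_
    haveI : (T.truncGE (M + 1)).IsLE (M + 1 + (N - M).toNat - 1) := (CochainComplex.isLE_iff _ _).2 fun r hr =>
      (exactAt_iff_isZero_homology _ _).2 (by
        haveI : QuasiIsoAt (T.πTruncGE (M + 1)) r := T.quasiIsoAt_πTruncGE (M + 1) r (by omega)
        exact (T.isZero_of_isLE N r (by omega)).of_iso (isoOfQuasiIsoAt (T.πTruncGE (M + 1)) r).symm)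
    refine good_bounded φ s hJ hJP a b a' b' e hω (N - M).toNat (T.truncGE (M + 1)) (M + 1) (fun r => ?_) l
    by_cases hr : M + 1 ≤ r
    · haveI : QuasiIsoAt (T.πTruncGE (M + 1)) r := T.quasiIsoAt_πTruncGE (M + 1) r hr
      by_cases hr' : r ≤ N
      · haveI : QuasiIsoAt (K.ιTruncLE N) r := K.quasiIsoAt_ιTruncLE N r hr'
        haveI := hK r
        exact Module.Finite.equiv ((isoOfQuasiIsoAt (K.ιTruncLE N) r).symm ≪≫
          isoOfQuasiIsoAt (T.πTruncGE (M + 1)) r).toLinearEquiv
      · haveI : Subsingleton ((T.truncGE (M + 1)).homology r) := ModuleCat.subsingleton_of_isZero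
          ((T.isZero_of_isLE N r (by omega)).of_iso (isoOfQuasiIsoAt (T.πTruncGE (M + 1)) r).symm)
        infer_instance
    · haveI : Subsingleton ((T.truncGE (M + 1)).homology r) :=
        ModuleCat.subsingleton_of_isZero ((T.truncGE (M + 1)).isZero_of_isGE (M + 1) r (by omega))
      infer_instance
  haveI : CochainComplex.IsLE (T.shortComplexTruncLE M).X₁ M := inferInstanceAs ((T.truncLE M).IsLE M)
  exact goodAt_X₂ φ s hJ hJP hS' j (goodAt_of_isLE φ s a b a' b' M j (by omega) (by omega))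
    (goodAt_of_isLE φ s a b a' b' M (j + 1) (by omega) (by omega)) (hB _) (hB _)

end

end Groth.Agent.DualBC
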