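/- Upper shriek through duality, on rings. -/
import Groth.Agent.DualBC.Main
import Groth.Agent.DualBC.Coext
import Groth.Agent.RingBidual.Apply
import Groth.Agent.RHomMod.Complete
import Groth.Agent.Shriek.NormVia
import Groth.Agent.Shriek.RA
import Groth.Agent.DTenLib.Base
import Groth.Agent.KFlat.StalkTot
import Groth.Prelude.Def_DualSh

set_option autoImplicit false
set_option maxHeartbeats 1000000
set_option linter.style.haveILetI false
set_option backward.isDefEq.respectTransparency false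
set_option backward.isDefEq.respectTransparency.types false
universe u

namespace Groth.Agent.DualBC

open CategoryTheory Limits CochainComplex HomologicalComplex
open Groth.Agent.DualCx (ext)

attribute [local instance] HasDerivedCategory.standard

noncomputable section

variable {A P : Type u} [CommRing A] [CommRing P] [Algebra A P] [Module.Flat A P] [IsNoetherianRing A]

/-- the dual of a base changed dual is the base change -/
theorem exists_dual_model [DRing.HasLBaseChange (algebraMap A P)] {ω : Dual.D A}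
    (hω : Dual.IsDualizing A ω) (hP : Dual.IsDualizing P ((DRing.LBaseChange (algebraMap A P)).obj ω))
    (K : DRing.Cx A) [DRing.HasRHomCx K] (hK : ∀ i : ℤ, Module.Finite A (Dual.HD A (DRing.toD K) i)) :
    ∃ (F : DRing.Cx A) (JP : DRing.Cx P), F.IsKProjective ∧ DRingKP.IsKFlat F ∧ JP.IsKInjective ∧
      Nonempty (DerivedCategory.Q.obj F ≅ (DRing.RHomCx K).obj ω) ∧
      Nonempty (DerivedCategory.Q.obj JP ≅ (DRing.LBaseChange (algebraMap A P)).obj ω) ∧
      Nonempty ((DRing.LBaseChange (algebraMap A P)).obj (DRing.toD K) ≅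
        DerivedCategory.Q.obj (DRing.homCx ((DRingKP.bc (algebraMap A P)).obj F) JP)) := by
  let φ := algebraMap A P
  obtain ⟨R⟩ := DualCx.nonempty_rep hω
  obtain ⟨RP⟩ := DualCx.nonempty_rep hP
  haveI := R.isKInjective
  haveI := RP.isKInjective
  haveI : R.J.IsStrictlyGE R.a := (CochainComplex.isStrictlyGE_iff _ _).2 fun j hj => R.zero j (Or.inl hj)
  haveI : R.J.IsStrictlyLE R.b := (CochainComplex.isStrictlyLE_iff _ _).2 fun j hj => R.zero j (Or.inr hj)
  haveI : RP.J.IsStrictlyGE RP.a := (CochainComplex.isStrictlyGE_iff _ _).2 fun j hj => RP.zero j (Or.inl hj)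
  haveI : RP.J.IsStrictlyLE RP.b := (CochainComplex.isStrictlyLE_iff _ _).2 fun j hj => RP.zero j (Or.inr hj)
  let es : DerivedCategory.Q.obj ((bc φ).obj R.J) ≅ DerivedCategory.Q.obj RP.J :=
    (DualCx.locQ φ R.J).symm ≪≫ (DualCx.locD φ).mapIso R.iso ≪≫ (DualCx.lBaseChangeObjIso φ ω).symm ≪≫ RP.iso.symm
  obtain ⟨s, hs⟩ := KInj.Q_map_surjective es.hom
  haveI : IsIso (DerivedCategory.Q.map s) := by rw [hs]; infer_instance
  haveI : QuasiIso s := (DerivedCategory.isIso_Q_map_iff_quasiIso _ s).1 inferInstance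
  haveI : QuasiIso (τ φ s K) := ⟨fun i => by
    rw [quasiIsoAt_iff_isIso_homologyMap]
    exact good_of_finite φ s R.inj RP.inj R.a R.b RP.a RP.b RP.iso hP K (RingBidual.finite_homology K hK) i⟩
  obtain ⟨F, c, hFp, hc, hFf⟩ := RHomMod.exists_kProj_kFlat_resolution (DRing.homCx K R.J)
  haveI := hFp; haveI := hc
  haveI := quasiIso_bc_map φ c
  haveI := RHomMod.quasiIso_preMap ((bc φ).map c) RP.J
  obtain ⟨P₀, c₀, hP₀, hc₀, -⟩ := RHomMod.exists_kProj_kFlat_resolution K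
  haveI := hP₀; haveI := hc₀
  haveI := RHomMod.quasiIso_preMap c₀ R.J
  obtain ⟨v⟩ := RHomMod.nonempty_RHomCx_iso K c₀ R.iso
  refine ⟨F, RP.J, hFp, hFf, inferInstance, ⟨asIso (DerivedCategory.Q.map c) ≪≫
    asIso (DerivedCategory.Q.map (RHomMod.preMap c₀ R.J)) ≪≫ v.symm⟩, ⟨RP.iso⟩,
    ⟨DualCx.lBaseChangeObjIso φ (DRing.toD K) ≪≫ DualCx.locQ φ K ≪≫
      asIso (DerivedCategory.Q.map (τ φ s K ≫ RHomMod.preMap ((bc φ).map c) RP.J))⟩⟩

variable {B : Type u} [CommRing B]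

/-- `φ^!(K) = D_B(D_A(K) ⊗^L B)` -/
theorem shriekVia_iso_dual {n : ℕ} [Algebra A B] (ψ : MvPolynomial (Fin n) A →ₐ[A] B)
    [DRing.HasLBaseChange (algebraMap A (MvPolynomial (Fin n) A))]
    (Rψ : Dual.D (MvPolynomial (Fin n) A) ⥤ Dual.D B) (adj : DRing.restrictD ψ.toRingHom ⊣ Rψ)
    [DRing.HasLBaseChange (algebraMap A B)] {ω : Dual.D A} (hω : Dual.IsDualizing A ω)
    (K : DRing.Cx A) [DRing.HasRHomCx K] (hK : ∀ i : ℤ, Module.Finite A (Dual.HD A (DRing.toD K) i))
    (E : DRing.Cx B) [DRing.HasRHomCx E]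
    (hE : Nonempty (DRing.toD E ≅ (DRing.LBaseChange (algebraMap A B)).obj ((DRing.RHomCx K).obj ω))) :
    Nonempty (Dual2.shriekVia n Rψ (DRing.toD K) ≅ (DRing.RHomCx E).obj (Dual2.shriekVia n Rψ ω)) := by
  let P := MvPolynomial (Fin n) A
  letI : Algebra P B := ψ.toRingHom.toAlgebra
  obtain ⟨eE⟩ := hE
  obtain ⟨F, JP, hFp, hFf, hJP, ⟨eF⟩, ⟨eJ⟩, ⟨eK⟩⟩ :=
    exists_dual_model (P := P) hω (Shriek.isDualizing_poly (n := n) hω) K hK
  haveI := hFp; haveI := hJP
  let FP := (DRingKP.bc (algebraMap A P)).obj F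
  let FB := (DRingKP.bc (algebraMap P B)).obj FP
  haveI : FP.IsKProjective := DTenLib.isKProjective_ext _ F
  haveI : FB.IsKProjective := DTenLib.isKProjective_ext _ FP
  haveI : (JP⟦(n : ℤ)⟧).IsKInjective := inferInstance
  haveI : (DRing.homCx FP (JP⟦(n : ℤ)⟧)).IsKInjective :=
    RHomMod.isKInjective_homCx (KFlat.isKFlat_extendScalars (algebraMap A P) hFf)
  let eL : DerivedCategory.Q.obj (JP⟦(n : ℤ)⟧) ≅
      ((DRing.LBaseChange (algebraMap A P)).obj ω)⟦(n : ℤ)⟧ :=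
    (DerivedCategory.Q.commShiftIso (n : ℤ)).app JP ≪≫ (CategoryTheory.shiftFunctor _ (n : ℤ)).mapIso eJ
  have hRA : ∀ (J : DRing.Cx P) [J.IsKInjective] {L : Dual.D P} (e : DerivedCategory.Q.obj J ≅ L),
      Shriek.RA ψ.toRingHom (DerivedCategory.Q.obj (DualCx.coJ (B := B) J)) L := fun J _ L e =>
    ⟨_, DualCx.isRA_coJ (A := P) (B := B) J e⟩
  -- the left hand side
  obtain ⟨w⟩ := nonempty_shiftIso FP JP (n : ℤ)
  let eH : DerivedCategory.Q.obj (DRing.homCx FP (JP⟦(n : ℤ)⟧)) ≅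
      ((DRing.LBaseChange (algebraMap A P)).obj (DRing.toD K))⟦(n : ℤ)⟧ :=
    DerivedCategory.Q.mapIso w ≪≫ (DerivedCategory.Q.commShiftIso (n : ℤ)).app _ ≪≫
      (CategoryTheory.shiftFunctor _ (n : ℤ)).mapIso eK.symm
  obtain ⟨l⟩ := ((Shriek.RA.of_adj adj _).shift (n : ℤ)).unique (hRA _ eH)
  -- the right hand side
  obtain ⟨r⟩ := ((Shriek.RA.of_adj adj _).shift (n : ℤ)).unique (hRA _ eL)
  have hcomp : (algebraMap P B).comp (algebraMap A P) = algebraMap A B := ψ.comp_algebraMap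
  let eB : DerivedCategory.Q.obj FB ≅ DerivedCategory.Q.obj E :=
    DerivedCategory.Q.mapIso ((Functor.mapHomologicalComplexCompIso
      (ModuleCat.extendScalarsComp (algebraMap A P) (algebraMap P B)).symm (ComplexShape.up ℤ)).app F) ≪≫
      DerivedCategory.Q.mapIso (eqToIso (by rw [hcomp])) ≪≫
      (DRingKP.lBaseChangeIso (algebraMap A B) F).symm ≪≫
      (DRing.LBaseChange (algebraMap A B)).mapIso eF ≪≫ eE.symm
  obtain ⟨d, hd⟩ := PerfLocal.exists_lift (R := B) eB.hom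
  haveI : IsIso (DerivedCategory.Q.map d) := by rw [hd]; infer_instance
  haveI : QuasiIso d := (DerivedCategory.isIso_Q_map_iff_quasiIso _ d).1 inferInstance
  obtain ⟨v⟩ := RHomMod.nonempty_RHomCx_iso E d r.symm
  haveI := isIso_coHom (B := B) FP (JP⟦(n : ℤ)⟧)
  exact ⟨l ≪≫ (DerivedCategory.Q.mapIso (asIso (coHom (B := B) FP (JP⟦(n : ℤ)⟧)))).symm ≪≫ v.symm⟩

end

end Groth.Agent.DualBC
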